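import Cfsg.Agent.H32.ThRep.P2.Data

/-!
Kernel checks of the chain certificate for the prime 2.
-/

set_option autoImplicit false
set_option Elab.async false
set_option maxRecDepth 100000

namespace Cfsg.Agent.H32.ThRep.P2

theorem base_ok : cert.baseOK = true := by decide +kernel

theorem word_ok0 : cert.wordOK 0 = true := by decide +kernel

theorem rel_ok0 : cert.relOK 0 = true := by decide +kernel

theorem pow_ok0 : cert.powOK 0 = true := by decide +kernel

theorem sep_ok0 : cert.sepOK 0 = true := by decide +kernel

theorem word_ok1 : cert.wordOK 1 = true := by decide +kernel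

theorem rel_ok1 : cert.relOK 1 = true := by decide +kernel

theorem pow_ok1 : cert.powOK 1 = true := by decide +kernel

theorem sep_ok1 : cert.sepOK 1 = true := by decide +kernel

theorem word_ok2 : cert.wordOK 2 = true := by decide +kernel

theorem rel_ok2 : cert.relOK 2 = true := by decide +kernel

theorem pow_ok2 : cert.powOK 2 = true := by decide +kernel

theorem sep_ok2 : cert.sepOK 2 = true := by decide +kernel

theorem word_ok3 : cert.wordOK 3 = true := by decide +kernel

theorem rel_ok3 : cert.relOK 3 = true := by decide +kernel

theorem pow_ok3 : cert.powOK 3 = true := by decide +kernel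

theorem sep_ok3 : cert.sepOK 3 = true := by decide +kernel

theorem word_ok4 : cert.wordOK 4 = true := by decide +kernel

theorem rel_ok4 : cert.relOK 4 = true := by decide +kernel

theorem pow_ok4 : cert.powOK 4 = true := by decide +kernel

theorem sep_ok4 : cert.sepOK 4 = true := by decide +kernel

theorem word_ok5 : cert.wordOK 5 = true := by decide +kernel

theorem rel_ok5 : cert.relOK 5 = true := by decide +kernel

theorem pow_ok5 : cert.powOK 5 = true := by decide +kernel

theorem sep_ok5 : cert.sepOK 5 = true := by decide +kernel

theorem word_ok6 : cert.wordOK 6 = true := by decide +kernel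

theorem rel_ok6 : cert.relOK 6 = true := by decide +kernel

theorem pow_ok6 : cert.powOK 6 = true := by decide +kernel

theorem sep_ok6 : cert.sepOK 6 = true := by decide +kernel

theorem word_ok7 : cert.wordOK 7 = true := by decide +kernel

theorem rel_ok7 : cert.relOK 7 = true := by decide +kernel

theorem pow_ok7 : cert.powOK 7 = true := by decide +kernel

theorem sep_ok7 : cert.sepOK 7 = true := by decide +kernel

theorem word_ok8 : cert.wordOK 8 = true := by decide +kernel

theorem rel_ok8 : cert.relOK 8 = true := by decide +kernel

theorem pow_ok8 : cert.powOK 8 = true := by decide +kernel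

theorem sep_ok8 : cert.sepOK 8 = true := by decide +kernel

theorem word_ok9 : cert.wordOK 9 = true := by decide +kernel

theorem rel_ok9 : cert.relOK 9 = true := by decide +kernel

theorem pow_ok9 : cert.powOK 9 = true := by decide +kernel

theorem sep_ok9 : cert.sepOK 9 = true := by decide +kernel

theorem word_ok10 : cert.wordOK 10 = true := by decide +kernel

theorem rel_ok10 : cert.relOK 10 = true := by decide +kernel

theorem pow_ok10 : cert.powOK 10 = true := by decide +kernel

theorem sep_ok10 : cert.sepOK 10 = true := by decide +kernel

theorem word_ok11 : cert.wordOK 11 = true := by decide +kernel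

theorem rel_ok11 : cert.relOK 11 = true := by decide +kernel

theorem pow_ok11 : cert.powOK 11 = true := by decide +kernel

theorem sep_ok11 : cert.sepOK 11 = true := by decide +kernel

theorem word_ok12 : cert.wordOK 12 = true := by decide +kernel

theorem rel_ok12 : cert.relOK 12 = true := by decide +kernel

theorem pow_ok12 : cert.powOK 12 = true := by decide +kernel

theorem sep_ok12 : cert.sepOK 12 = true := by decide +kernel

theorem word_ok13 : cert.wordOK 13 = true := by decide +kernel

theorem rel_ok13 : cert.relOK 13 = true := by decide +kernel

theorem pow_ok13 : cert.powOK 13 = true := by decide +kernel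

theorem sep_ok13 : cert.sepOK 13 = true := by decide +kernel

theorem ker_ok : cert.kerOK = true := by decide +kernel

theorem dvd_range : 2 ^ 15 ∣ Nat.card rep248.range :=
  cert.dvd_range (show Nat.Prime 2 by norm_num) base_ok
    (fun i => match i with
      | 0 => word_ok0
      | 1 => word_ok1
      | 2 => word_ok2
      | 3 => word_ok3
      | 4 => word_ok4
      | 5 => word_ok5
      | 6 => word_ok6
      | 7 => word_ok7
      | 8 => word_ok8
      | 9 => word_ok9
      | 10 => word_ok10
      | 11 => word_ok11
      | 12 => word_ok12
      | 13 => word_ok13)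
    (fun i => match i with
      | 0 => rel_ok0
      | 1 => rel_ok1
      | 2 => rel_ok2
      | 3 => rel_ok3
      | 4 => rel_ok4
      | 5 => rel_ok5
      | 6 => rel_ok6
      | 7 => rel_ok7
      | 8 => rel_ok8
      | 9 => rel_ok9
      | 10 => rel_ok10
      | 11 => rel_ok11
      | 12 => rel_ok12
      | 13 => rel_ok13)
    (fun i => match i with
      | 0 => pow_ok0
      | 1 => pow_ok1
      | 2 => pow_ok2
      | 3 => pow_ok3
      | 4 => pow_ok4
      | 5 => pow_ok5
      | 6 => pow_ok6
      | 7 => pow_ok7
      | 8 => pow_ok8
      | 9 => pow_ok9
      | 10 => pow_ok10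
      | 11 => pow_ok11
      | 12 => pow_ok12
      | 13 => pow_ok13)
    (fun i => match i with
      | 0 => sep_ok0
      | 1 => sep_ok1
      | 2 => sep_ok2
      | 3 => sep_ok3
      | 4 => sep_ok4
      | 5 => sep_ok5
      | 6 => sep_ok6
      | 7 => sep_ok7
      | 8 => sep_ok8
      | 9 => sep_ok9
      | 10 => sep_ok10
      | 11 => sep_ok11
      | 12 => sep_ok12
      | 13 => sep_ok13)
    ker_ok

end Cfsg.Agent.H32.ThRep.P2
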